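import Mathlib.Data.ZMod.Basic
import Mathlib.Data.Fintype.Prod
import Mathlib.LinearAlgebra.SymplecticGroup
import Mathlib.LinearAlgebra.Matrix.Notation

/-!
The generalized quadrangle of order `(3,3)` twice: the 40 non-isotropic points of the unitary
`F₄⁴` and the 40 points of the symplectic `F₃⁴`, in matching order, with the symplectic matrices
that induce the unitary transvections.
-/

set_option autoImplicit false

namespace CfsgLib.PSU42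

/-- Coordinates of the field with four elements. -/
abbrev B := ZMod 2 × ZMod 2

/-- Vectors of `F₄⁴`. -/
abbrev U := B × B × B × B

/-- Vectors of `F₃⁴`. -/
abbrev W := ZMod 3 × ZMod 3 × ZMod 3 × ZMod 3

/-- Matrices over `F₃`, as four rows. -/
abbrev M4 := W × W × W × W

/-- Product in the field with four elements. -/
def mulB (x y : B) : B := (x.1 * y.1 + x.2 * y.2, x.1 * y.2 + x.2 * y.1 + x.2 * y.2)

/-- The Hermitian form. -/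
def hC (x v : U) : B :=
  mulB x.1 (mulB v.1 v.1) + mulB x.2.1 (mulB v.2.1 v.2.1) + mulB x.2.2.1 (mulB v.2.2.1 v.2.2.1) +
    mulB x.2.2.2 (mulB v.2.2.2 v.2.2.2)

/-- Scalar multiple. -/
def smulU (c : B) (x : U) : U :=
  (mulB c x.1, mulB c x.2.1, mulB c x.2.2.1, mulB c x.2.2.2)

/-- The transvection along an isotropic vector. -/
def transU (v x : U) : U := x + smulU (hC x v) v

/-- Dot product. -/
def dotW (r x : W) : ZMod 3 :=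
  r.1 * x.1 + r.2.1 * x.2.1 + r.2.2.1 * x.2.2.1 + r.2.2.2 * x.2.2.2

/-- A matrix applied to a vector. -/
def applyW (M : M4) (x : W) : W :=
  (dotW M.1 x, dotW M.2.1 x, dotW M.2.2.1 x, dotW M.2.2.2 x)

/-- Scalar multiple. -/
def smulW (c : ZMod 3) (x : W) : W := (c * x.1, c * x.2.1, c * x.2.2.1, c * x.2.2.2)

/-- Norm one vectors of `F₄⁴`, up to scalars. -/
def repsU : List U :=
  [((0, 0), (0, 0), (0, 0), (1, 0)), ((0, 0), (0, 0), (1, 0), (0, 0)), ((0, 0), (1, 0), (0, 0), (0, 0)),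
   ((1, 0), (0, 0), (0, 0), (0, 0)), ((1, 0), (1, 0), (0, 0), (0, 1)), ((1, 0), (1, 0), (0, 0), (1, 0)),
   ((1, 0), (1, 0), (0, 0), (1, 1)), ((1, 0), (1, 1), (0, 0), (1, 1)), ((1, 0), (1, 1), (0, 0), (0, 1)),
   ((1, 0), (1, 1), (0, 0), (1, 0)), ((1, 0), (0, 1), (0, 0), (1, 0)), ((1, 0), (0, 1), (0, 0), (1, 1)),
   ((1, 0), (0, 1), (0, 0), (0, 1)), ((1, 0), (1, 0), (0, 1), (0, 0)), ((1, 0), (1, 1), (1, 1), (0, 0)),
   ((1, 0), (0, 1), (1, 0), (0, 0)), ((1, 0), (1, 0), (1, 0), (0, 0)), ((1, 0), (1, 1), (0, 1), (0, 0)),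
   ((1, 0), (0, 1), (1, 1), (0, 0)), ((1, 0), (1, 0), (1, 1), (0, 0)), ((1, 0), (1, 1), (1, 0), (0, 0)),
   ((1, 0), (0, 1), (0, 1), (0, 0)), ((0, 0), (1, 0), (0, 1), (0, 1)), ((0, 0), (1, 0), (0, 1), (1, 0)),
   ((0, 0), (1, 0), (0, 1), (1, 1)), ((0, 0), (1, 0), (1, 0), (0, 1)), ((0, 0), (1, 0), (1, 0), (1, 0)),
   ((0, 0), (1, 0), (1, 0), (1, 1)), ((0, 0), (1, 0), (1, 1), (0, 1)), ((0, 0), (1, 0), (1, 1), (1, 0)),
   ((0, 0), (1, 0), (1, 1), (1, 1)), ((1, 0), (0, 0), (0, 1), (0, 1)), ((1, 0), (0, 0), (0, 1), (1, 1)),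
   ((1, 0), (0, 0), (0, 1), (1, 0)), ((1, 0), (0, 0), (1, 0), (0, 1)), ((1, 0), (0, 0), (1, 0), (1, 1)),
   ((1, 0), (0, 0), (1, 0), (1, 0)), ((1, 0), (0, 0), (1, 1), (0, 1)), ((1, 0), (0, 0), (1, 1), (1, 1)),
   ((1, 0), (0, 0), (1, 1), (1, 0))]

/-- Points of `F₃⁴`, in the order matching `repsU`. -/
def repsW : List W :=
  [(0, 0, 0, 1), (0, 0, 1, 0), (0, 0, 1, 1),
   (0, 0, 1, 2), (0, 1, 0, 0), (0, 1, 0, 1),
   (0, 1, 0, 2), (0, 1, 1, 0), (0, 1, 1, 1),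
   (0, 1, 1, 2), (0, 1, 2, 0), (0, 1, 2, 1),
   (0, 1, 2, 2), (1, 0, 0, 0), (1, 0, 0, 1),
   (1, 0, 0, 2), (1, 0, 1, 0), (1, 0, 1, 1),
   (1, 0, 1, 2), (1, 0, 2, 0), (1, 0, 2, 1),
   (1, 0, 2, 2), (1, 1, 0, 0), (1, 1, 0, 1),
   (1, 1, 0, 2), (1, 1, 1, 0), (1, 1, 1, 1),
   (1, 1, 1, 2), (1, 1, 2, 0), (1, 1, 2, 1),
   (1, 1, 2, 2), (1, 2, 0, 0), (1, 2, 0, 1),
   (1, 2, 0, 2), (1, 2, 1, 0), (1, 2, 1, 1),
   (1, 2, 1, 2), (1, 2, 2, 0), (1, 2, 2, 1),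
   (1, 2, 2, 2)]

/-- Symplectic matrices (by rows) inducing the unitary transvections. -/
def mats : List M4 :=
  [((1, 0, 0, 0), (0, 1, 0, 0), (0, 0, 1, 0), (0, 0, 0, 1)),
   ((0, 1, 0, 0), (1, 0, 0, 0), (0, 0, 0, 1), (0, 0, 1, 0)),
   ((0, 1, 0, 0), (1, 0, 0, 0), (0, 1, 0, 1), (2, 0, 1, 0)),
   ((0, 1, 0, 0), (1, 0, 0, 0), (0, 2, 0, 1), (1, 0, 1, 0)),
   ((1, 0, 0, 0), (2, 2, 0, 0), (0, 1, 1, 2), (2, 0, 0, 2)),
   ((1, 0, 0, 0), (2, 2, 0, 0), (0, 0, 1, 2), (0, 0, 0, 2)),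
   ((1, 0, 0, 0), (2, 2, 0, 0), (0, 2, 1, 2), (1, 0, 0, 2)),
   ((1, 1, 0, 0), (0, 2, 0, 0), (0, 1, 1, 0), (2, 0, 1, 2)),
   ((1, 1, 0, 0), (0, 2, 0, 0), (0, 0, 1, 0), (0, 0, 1, 2)),
   ((1, 1, 0, 0), (0, 2, 0, 0), (0, 2, 1, 0), (1, 0, 1, 2)),
   ((1, 0, 0, 0), (1, 2, 0, 0), (0, 2, 1, 1), (1, 0, 0, 2)),
   ((1, 0, 0, 0), (1, 2, 0, 0), (0, 0, 1, 1), (0, 0, 0, 2)),
   ((1, 0, 0, 0), (1, 2, 0, 0), (0, 1, 1, 1), (2, 0, 0, 2)),
   ((1, 2, 0, 0), (0, 2, 0, 0), (0, 2, 1, 0), (1, 0, 2, 2)),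
   ((1, 2, 0, 0), (0, 2, 0, 0), (0, 0, 1, 0), (0, 0, 2, 2)),
   ((1, 2, 0, 0), (0, 2, 0, 0), (0, 1, 1, 0), (2, 0, 2, 2)),
   ((1, 0, 0, 0), (0, 2, 0, 0), (0, 0, 1, 0), (0, 0, 0, 2)),
   ((0, 2, 0, 1), (1, 0, 2, 0), (0, 1, 0, 1), (2, 0, 2, 0)),
   ((0, 0, 0, 1), (1, 0, 2, 0), (0, 2, 0, 1), (1, 0, 0, 0)),
   ((0, 1, 0, 1), (1, 0, 2, 0), (0, 0, 0, 1), (0, 0, 1, 0)),
   ((0, 2, 0, 1), (0, 0, 2, 0), (0, 2, 0, 0), (1, 0, 2, 0)),
   ((0, 0, 0, 1), (0, 0, 2, 0), (0, 2, 0, 0), (1, 0, 0, 0)),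
   ((0, 1, 0, 1), (0, 0, 2, 0), (0, 2, 0, 0), (1, 0, 1, 0)),
   ((0, 1, 0, 2), (1, 0, 1, 0), (0, 0, 0, 1), (0, 0, 1, 0)),
   ((0, 0, 0, 2), (1, 0, 1, 0), (0, 1, 0, 1), (2, 0, 0, 0)),
   ((0, 2, 0, 2), (1, 0, 1, 0), (0, 2, 0, 1), (1, 0, 2, 0)),
   ((1, 0, 0, 0), (0, 2, 0, 0), (0, 2, 1, 0), (1, 0, 0, 2)),
   ((1, 0, 0, 1), (0, 2, 2, 0), (0, 0, 1, 0), (0, 0, 0, 2)),
   ((1, 1, 0, 1), (0, 2, 2, 0), (0, 0, 1, 0), (0, 0, 1, 2)),
   ((1, 2, 0, 1), (0, 2, 2, 0), (0, 0, 1, 0), (0, 0, 2, 2)),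
   ((1, 0, 0, 1), (2, 2, 2, 0), (0, 0, 1, 2), (0, 0, 0, 2)),
   ((1, 1, 0, 1), (2, 2, 2, 0), (0, 2, 1, 2), (1, 0, 1, 2)),
   ((1, 2, 0, 1), (2, 2, 2, 0), (0, 1, 1, 2), (2, 0, 2, 2)),
   ((1, 0, 0, 1), (1, 2, 2, 0), (0, 0, 1, 1), (0, 0, 0, 2)),
   ((1, 1, 0, 1), (1, 2, 2, 0), (0, 1, 1, 1), (2, 0, 1, 2)),
   ((1, 2, 0, 1), (1, 2, 2, 0), (0, 2, 1, 1), (1, 0, 2, 2)),
   ((1, 0, 0, 0), (0, 2, 0, 0), (0, 1, 1, 0), (2, 0, 0, 2)),
   ((1, 2, 0, 2), (1, 2, 1, 0), (0, 1, 1, 1), (2, 0, 2, 2)),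
   ((1, 1, 0, 2), (1, 2, 1, 0), (0, 2, 1, 1), (1, 0, 1, 2)),
   ((1, 0, 0, 2), (1, 2, 1, 0), (0, 0, 1, 1), (0, 0, 0, 2)),
   ((1, 2, 0, 2), (2, 2, 1, 0), (0, 2, 1, 2), (1, 0, 2, 2)),
   ((1, 1, 0, 2), (2, 2, 1, 0), (0, 1, 1, 2), (2, 0, 1, 2)),
   ((1, 0, 0, 2), (2, 2, 1, 0), (0, 0, 1, 2), (0, 0, 0, 2)),
   ((1, 2, 0, 2), (0, 2, 1, 0), (0, 0, 1, 0), (0, 0, 2, 2)),
   ((1, 1, 0, 2), (0, 2, 1, 0), (0, 0, 1, 0), (0, 0, 1, 2)),
   ((1, 0, 0, 2), (0, 2, 1, 0), (0, 0, 1, 0), (0, 0, 0, 2))]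

/-- The `i`th representative on the unitary side. -/
def repU (i : Fin 40) : U := repsU.getD i 0

/-- The `i`th representative on the symplectic side. -/
def repW (i : Fin 40) : W := repsW.getD i 0

/-- The number of a field element. -/
def codeB (a : B) : ℕ := a.1.val + 2 * a.2.val

/-- The points of all vectors, packed in six-bit digits. -/
def tableU : ℕ := 3735311404502097438325592467553879165905020181659176361080966339375065773885206054256436396700372476800720662978048187476292760147803851938964233129139792833243270104322840509362352847905855858759671468784727707698210744373886633708095311516698193512420882162185493129616107366816480326393697960749165841228748835965749337368648553807449003652377520423808633935859767668658095159018482894084915548554898264605881669804145704436814381671507194829859860525248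

/-- The points of all vectors, packed in six-bit digits. -/
def tableW : ℕ := 83074297412396862455140474969850845728515953178374150397898866614180200022242497100351129372903600579667489773024368681279364175439960387668202304

/-- The point of a vector. -/
def idxU (x : U) : Fin 40 := Fin.ofNat 40 ((tableU >>>
  (6 * (codeB x.1 + 4 * (codeB x.2.1 + 4 * (codeB x.2.2.1 + 4 * codeB x.2.2.2))))) % 64)

/-- The point of a vector. -/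
def idxW (x : W) : Fin 40 := Fin.ofNat 40 ((tableW >>>
  (6 * (x.1.val + 3 * (x.2.1.val + 3 * (x.2.2.1.val + 3 * x.2.2.2.val))))) % 64)

/-- A table entry as a matrix. -/
def toMat (M : M4) : Matrix (Fin 2 ⊕ Fin 2) (Fin 2 ⊕ Fin 2) (ZMod 3) :=
  let row : W → Fin 2 ⊕ Fin 2 → ZMod 3 := fun r => Sum.elim ![r.1, r.2.1] ![r.2.2.1, r.2.2.2]
  Matrix.of (Sum.elim ![row M.1, row M.2.1] ![row M.2.2.1, row M.2.2.2])

theorem repU_good : ∀ i : Fin 40, hC (repU i) (repU i) ≠ 0 := by decide +kernel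

theorem idxU_rep : ∀ i : Fin 40, idxU (repU i) = i := by decide +kernel

theorem idxU_smul : ∀ (c : B) (x : U), c ≠ 0 → idxU (smulU c x) = idxU x := by decide +kernel

theorem idxU_spec : ∀ x : U, hC x x ≠ 0 → ∃ c : B, c ≠ 0 ∧ smulU c x = repU (idxU x) := by
  decide +kernel

theorem repW_good : ∀ i : Fin 40, repW i ≠ 0 := by decide +kernel

theorem idxW_rep : ∀ i : Fin 40, idxW (repW i) = i := by decide +kernel

theorem idxW_smul : ∀ (c : ZMod 3) (x : W), c ≠ 0 → idxW (smulW c x) = idxW x := by decide +kernel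

theorem idxW_spec : ∀ x : W, x ≠ 0 → ∃ c : ZMod 3, c ≠ 0 ∧ smulW c x = repW (idxW x) := by
  decide +kernel

theorem mats_symp : ∀ M ∈ mats,
    (toMat M).transpose * Matrix.J (Fin 2) (ZMod 3) * toMat M = Matrix.J (Fin 2) (ZMod 3) := by
  decide +kernel

theorem trans_mem : ∀ v : U, hC v v = 0 →
    ∃ M ∈ mats, ∀ i : Fin 40, idxU (transU v (repU i)) = idxW (applyW M (repW i)) := by
  decide +kernel

theorem trans_moves : ∃ v : U, hC v v = 0 ∧ v ≠ 0 ∧ ∃ i : Fin 40, idxU (transU v (repU i)) ≠ i := by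
  decide +kernel

end CfsgLib.PSU42
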